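import Groth.Agent.H24Cot.Regular
import Groth.Agent.H23TFCurv.ExtOne
import Mathlib.RingTheory.Spectrum.Prime.Basic

/-!
# `T²` of a reduced algebra is `Ext¹` of the conormal module
-/

universe u

open TensorProduct CotT

set_option linter.style.haveILetI false

noncomputable section

namespace Groth.Agent.H8Cot

open H24Cot

variable {A B : Type u} [CommRing A] [CommRing B] [Algebra A B] {ι σ : Type u} (P : Algebra.Presentation A B ι σ)

/-- A syzygy with coefficients in the ideal dies in `L₂` wherever the ideal has trivial relations. -/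
theorem exists_smul_eta_eq_zero [Finite σ] (𝔪 : Ideal P.toExtension.Ring) [𝔪.IsPrime]
    {c : ℕ} (g : Fin c → Localization.AtPrime 𝔪) (hg : RelationsTrivial g)
    (hspan : P.toExtension.ker.map (algebraMap P.toExtension.Ring (Localization.AtPrime 𝔪)) =
      Ideal.span (Set.range g))
    (q : relKer P) (hqI : ∀ s, (q : relMod P) s ∈ P.toExtension.ker) :
    ∃ r ∉ 𝔪, algebraMap P.toExtension.Ring B r • eta (P' := P) q = 0 := by
  classical
  haveI := Fintype.ofFinite σ
  obtain ⟨n, ⟨e⟩⟩ := Finite.exists_equiv_fin σ
  set z : Nmod P := Submodule.Quotient.mk (q : relMod P) with hz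
  let L := Localization.AtPrime 𝔪
  let N := LocalizedModule 𝔪.primeCompl (Nmod P)
  let f : σ → L := fun s => algebraMap P.toExtension.Ring L (rel P s)
  let i : Nmod P →ₗ[P.toExtension.Ring] N := LocalizedModule.mkLinearMap 𝔪.primeCompl (Nmod P)
  have hf : Ideal.span (Set.range f) = Ideal.span (Set.range g) := by
    rw [← hspan, show P.toExtension.ker = Ideal.span (Set.range (rel P)) from
      P.span_range_relation_eq_ker.symm, Ideal.map_span, ← Set.range_comp]
    rfl
  have hqf : ∀ s, algebraMap P.toExtension.Ring L ((q : relMod P) s) ∈ Ideal.span (Set.range f) := fun s => by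
    rw [hf, ← hspan]
    exact Ideal.mem_map_of_mem _ (hqI s)
  have hrel : ∑ s, algebraMap P.toExtension.Ring L ((q : relMod P) s) * f s = 0 := by
    have h0 : jmap P (q : relMod P) = 0 := q.2
    rw [jmap, Finsupp.linearCombination_apply,
      Finsupp.sum_fintype _ (fun s a => a • rel P s) (fun s => zero_smul _ _)] at h0
    simp only [f, ← map_mul, ← map_sum]
    rw [show ∑ s, (q : relMod P) s * rel P s = 0 from h0, map_zero]
  have hr : Set.range (f ∘ e.symm) = Set.range f := e.symm.surjective.range_comp f
  have key := sum_smul_eq_zero_of_relationsTrivial (f ∘ e.symm) g hg (by rw [hr]; exact hf)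
    (fun j => algebraMap P.toExtension.Ring L ((q : relMod P) (e.symm j)))
    (fun j => by rw [hr]; exact hqf (e.symm j))
    ((Equiv.sum_comp e.symm fun s => algebraMap P.toExtension.Ring L ((q : relMod P) s) * f s).trans hrel) N
    (fun j => i (Submodule.Quotient.mk (Finsupp.single (e.symm j) 1))) fun s s' => by
      simp only [Function.comp_apply, f, algebraMap_smul, ← map_smul]
      congr 1
      have e' := jbar_swap P (Submodule.Quotient.mk (Finsupp.single (e.symm s) 1))
        (Submodule.Quotient.mk (Finsupp.single (e.symm s') 1))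
      rwa [jbar_mk, jbar_mk, jmap_single, jmap_single, one_mul, one_mul] at e'
  have hiz : i z = 0 := by
    rw [← key, Equiv.sum_comp e.symm fun s => algebraMap P.toExtension.Ring L ((q : relMod P) s) •
      i (Submodule.Quotient.mk (Finsupp.single s 1))]
    simp only [algebraMap_smul, ← map_smul, ← map_sum]
    congr 1
    rw [hz]
    conv_lhs => rw [← Finsupp.univ_sum_single (q : relMod P)]
    rw [← Submodule.mkQ_apply, map_sum]
    exact Finset.sum_congr rfl fun s _ => by rw [← Finsupp.smul_single_one, map_smul]; rfl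
  obtain ⟨⟨r, hr'⟩, hrz⟩ := (IsLocalizedModule.eq_zero_iff 𝔪.primeCompl i).mp hiz
  refine ⟨r, hr', ?_⟩
  rw [← eta_smul]
  refine eta_eq_zero _ ?_
  have hrz' : r • z = 0 := hrz
  rw [hz, ← Submodule.Quotient.mk_smul, Submodule.Quotient.mk_eq_zero] at hrz'
  exact hrz'

/-- At a minimal prime of a reduced quotient of a regular ring the ideal has trivial relations. -/
theorem exists_generators_of_minimal [IsRegularRing P.toExtension.Ring] [IsReduced B] (p : Ideal B) [p.IsPrime]
    (hp : p ∈ minimalPrimes B) :
    ∃ (c : ℕ) (g : Fin c → Localization.AtPrime (p.comap (algebraMap P.toExtension.Ring B))), RelationsTrivial g ∧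
      P.toExtension.ker.map (algebraMap P.toExtension.Ring
        (Localization.AtPrime (p.comap (algebraMap P.toExtension.Ring B)))) = Ideal.span (Set.range g) := by
  let φ : P.toExtension.Ring →+* B := algebraMap P.toExtension.Ring B
  have hφ : Function.Surjective φ := algebraMap_ring_surjective P
  haveI : Subsingleton (PrimeSpectrum (Localization.AtPrime p)) :=
    IsLocalization.subsingleton_primeSpectrum_of_mem_minimalPrimes p hp _
  haveI : IsReduced (Localization.AtPrime p) := isReduced_of_injective (RingEquiv.refl _) (RingEquiv.injective _)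
  haveI : IsRegularLocalRing (Localization.AtPrime p) := by
    have hF : IsField (Localization.AtPrime p) := by
      rw [IsLocalRing.isField_iff_maximalIdeal_eq, eq_bot_iff]
      intro x hx
      refine IsReduced.eq_zero x ?_
      rw [← mem_nilradical, nilradical_eq_sInf, Ideal.mem_sInf]
      intro J hJ
      have : (⟨J, hJ⟩ : PrimeSpectrum (Localization.AtPrime p)) = ⟨IsLocalRing.maximalIdeal _, inferInstance⟩ :=
        Subsingleton.elim _ _
      rw [show J = IsLocalRing.maximalIdeal _ from congrArg PrimeSpectrum.asIdeal this]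
      exact hx
    letI := hF.toField
    infer_instance
  haveI : IsRegularLocalRing (Localization.AtPrime (p.comap φ)) := IsRegularRing.isRegularLocalRing_localization _
  obtain ⟨c, g, hg, hspan⟩ := exists_regular_generators _ (localRingHom_surjective φ hφ p)
  exact ⟨c, g, relationsTrivial_ofFn g hg.toIsWeaklyRegular, by rw [hspan, ker_localRingHom φ hφ]⟩

/-- Every functional on `L₂` kills the kernel of `d₂`. -/
theorem apply_eq_zero_of_d2_eq_zero [Finite σ] [IsRegularRing P.toExtension.Ring] [IsReduced B]
    (φ : L2 P →ₗ[B] B) (w : L2 P) (hw : d2 P w = 0) : φ w = 0 := by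
  obtain ⟨z, rfl⟩ := Submodule.Quotient.mk_surjective _ w
  obtain ⟨q, rfl⟩ := TensorProduct.mk_surjective P.toExtension.Ring (relKer P) B (algebraMap_ring_surjective P) z
  rw [TensorProduct.mk_apply, d2_mk_tmul] at hw
  have hqI : ∀ s, (q : relMod P) s ∈ P.toExtension.ker := fun s => by
    have := congrArg (fun v => (L1basis P).repr v s) hw
    simp only [map_zero, Finsupp.zero_apply, L1basis, Algebra.TensorProduct.basis_repr_tmul,
      Finsupp.mapRange_apply, one_smul] at this
    exact this
  refine IsReduced.eq_zero _ ?_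
  rw [← mem_nilradical, nilradical_eq_sInf, Ideal.mem_sInf]
  intro J hJ
  haveI : J.IsPrime := hJ
  obtain ⟨p, hp, hpJ⟩ := Ideal.exists_minimalPrimes_le (I := (⊥ : Ideal B)) (J := J) bot_le
  refine hpJ ?_
  haveI : p.IsPrime := hp.1.1
  obtain ⟨c, g, hg, hspan⟩ := exists_generators_of_minimal P p hp
  obtain ⟨r, hr, hr0⟩ := exists_smul_eta_eq_zero P _ g hg hspan q hqI
  have h0 : algebraMap P.toExtension.Ring B r * φ (eta (P' := P) q) = 0 := by
    rw [← smul_eq_mul, ← map_smul, hr0, map_zero]
  exact ((hp.1.1.mem_or_mem (h0.symm ▸ p.zero_mem)).resolve_left hr)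

/-- Functionals on the image of `t` are the functionals killing its kernel. -/
theorem bijective_lcomp {R : Type u} [CommRing R] {L K M : Type u} [AddCommGroup L] [Module R L] [AddCommGroup K]
    [Module R K] [AddCommGroup M] [Module R M] (t : L →ₗ[R] K) (ht : Function.Surjective t)
    (h : ∀ (φ : L →ₗ[R] M) (w : L), t w = 0 → φ w = 0) : Function.Bijective (LinearMap.lcomp R M t) := by
  refine ⟨fun a b hab => LinearMap.ext fun x => ?_, fun φ => ?_⟩
  · obtain ⟨w, rfl⟩ := ht x
    exact LinearMap.congr_fun hab w
  · refine ⟨(Submodule.liftQ _ φ fun w hw => h φ w hw).comp (t.quotKerEquivOfSurjective ht).symm.toLinearMap,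
      LinearMap.ext fun w => ?_⟩
    show Submodule.liftQ _ φ (fun w hw => h φ w hw) ((t.quotKerEquivOfSurjective ht).symm (t w)) = φ w
    rw [show (t.quotKerEquivOfSurjective ht).symm (t w) = Submodule.Quotient.mk w from
      (t.quotKerEquivOfSurjective ht).symm_apply_eq.2 rfl]
    rfl

/-- The cokernels of restriction along a surjection onto the kernel and along the inclusion agree. -/
theorem nonempty_quot_equiv {R : Type u} [CommRing R] {L F M : Type u} [AddCommGroup L] [Module R L]
    [AddCommGroup F] [Module R F] [AddCommGroup M] [Module R M] (K : Submodule R F) (d : L →ₗ[R] F)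
    (hd : LinearMap.range d = K) (h : ∀ (φ : L →ₗ[R] M) (w : L), d w = 0 → φ w = 0) :
    Nonempty (((L →ₗ[R] M) ⧸ LinearMap.range (LinearMap.lcomp R M d)) ≃ₗ[R]
      ((K →ₗ[R] M) ⧸ LinearMap.range (LinearMap.lcomp R M K.subtype))) := by
  let t : L →ₗ[R] K := d.codRestrict K fun w => hd ▸ LinearMap.mem_range_self d w
  have ht : Function.Surjective t := fun x => by
    obtain ⟨w, hw⟩ : (x : F) ∈ LinearMap.range d := hd.symm ▸ x.2
    exact ⟨w, Subtype.ext hw⟩
  let pe : (K →ₗ[R] M) ≃ₗ[R] (L →ₗ[R] M) := LinearEquiv.ofBijective (LinearMap.lcomp R M t)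
    (bijective_lcomp t ht fun φ w hw => h φ w (congrArg Subtype.val hw))
  have hmap : (LinearMap.range (LinearMap.lcomp R M K.subtype)).map (pe : (K →ₗ[R] M) →ₗ[R] (L →ₗ[R] M)) =
      LinearMap.range (LinearMap.lcomp R M d) := by
    rw [← LinearMap.range_comp]
    exact congrArg LinearMap.range (LinearMap.ext fun φ => LinearMap.ext fun w => rfl)
  exact ⟨(Submodule.Quotient.equiv _ _ pe hmap).symm⟩

/-- `T²(P, B) ≅ Ext¹(I/I², B)`. -/
theorem nonempty_T2_equiv_ext [Finite σ] [IsRegularRing P.toExtension.Ring] [IsReduced B] :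
    Nonempty (T2 P B ≃ₗ[B]
      CategoryTheory.Abelian.Ext (ModuleCat.of B P.toExtension.Cotangent) (ModuleCat.of B B) 1) := by
  haveI : Module.Projective B (L1 P) := Module.Projective.of_basis (L1basis P)
  obtain ⟨E⟩ := H23TFCurv.nonempty_extOneEquiv (toCot P) (toCot_surjective P) B
  obtain ⟨Q⟩ := nonempty_quot_equiv (M := B) (LinearMap.ker (toCot P)) (d2 P)
    (LinearMap.exact_iff.mp (exact_d2_toCot P)).symm (apply_eq_zero_of_d2_eq_zero P)
  exact ⟨Q.trans E⟩

end Groth.Agent.H8Cot
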